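import Mathlib.RingTheory.WittVector.Defs
import Mathlib.RingTheory.MvPolynomial.WeightedHomogeneous

/-!
Weighted homogeneity of Witt structure polynomials, and evaluation of weighted homogeneous
polynomials in a multiplicative family of submodules.
-/

namespace Groth.Agent.WittHomog

open MvPolynomial Finset

variable (p : ℕ) [hp : Fact p.Prime]

theorem rename_wittPolynomial {idx : Type*} (c : idx → ℕ) (b : idx) (n : ℕ) :
    IsWeightedHomogeneous (fun x : idx × ℕ => c x.1 * p ^ x.2)
      (rename (fun i => (b, i)) (wittPolynomial p ℚ n)) (c b * p ^ n) := by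
  rw [wittPolynomial_eq_sum_C_mul_X_pow, map_sum]
  refine IsWeightedHomogeneous.sum _ _ _ fun i hi => ?_
  simp only [map_mul, map_pow, rename_C, rename_X]
  rw [← map_pow (C : ℚ →+* MvPolynomial (idx × ℕ) ℚ)]
  refine IsWeightedHomogeneous.C_mul ?_ _
  have h := (isWeightedHomogeneous_X ℚ (fun x : idx × ℕ => c x.1 * p ^ x.2) (b, i)).pow (p ^ (n - i))
  have hle : i ≤ n := Nat.lt_succ_iff.mp (mem_range.mp hi)
  rw [smul_eq_mul, mul_left_comm, ← pow_add, Nat.sub_add_cancel hle] at h
  exact h

theorem wittStructureRat_homog {idx : Type*} (Φ : MvPolynomial idx ℚ) (v : idx × ℕ → ℕ)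
    (h : ∀ n, IsWeightedHomogeneous v
      (bind₁ (fun b => rename (fun i => (b, i)) (wittPolynomial p ℚ n)) Φ) (p ^ n)) (n : ℕ) :
    IsWeightedHomogeneous v (wittStructureRat p Φ n) (p ^ n) := by
  induction n using Nat.strong_induction_on with
  | _ n ih =>
    rw [wittStructureRat_rec]
    refine IsWeightedHomogeneous.C_mul (IsWeightedHomogeneous.sub (h n) ?_) _
    refine IsWeightedHomogeneous.sum _ _ _ fun i hi => ?_
    refine IsWeightedHomogeneous.C_mul ?_ _
    have h2 := (ih i (mem_range.mp hi)).pow (p ^ (n - i))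
    rw [smul_eq_mul, ← pow_add, Nat.sub_add_cancel (mem_range.mp hi).le] at h2
    exact h2

theorem wittStructureInt_homog {idx : Type*} (Φ : MvPolynomial idx ℤ) (v : idx × ℕ → ℕ)
    (h : ∀ n, IsWeightedHomogeneous v
      (bind₁ (fun b => rename (fun i => (b, i)) (wittPolynomial p ℚ n))
        (MvPolynomial.map (Int.castRingHom ℚ) Φ)) (p ^ n)) (n : ℕ) :
    IsWeightedHomogeneous v (wittStructureInt p Φ n) (p ^ n) := by
  intro d hd
  refine wittStructureRat_homog p _ v h n (d := d) ?_
  rw [← map_wittStructureInt, coeff_map]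
  simpa using hd

theorem wittAdd_homog (n : ℕ) :
    IsWeightedHomogeneous (fun x : Fin 2 × ℕ => p ^ x.2) (WittVector.wittAdd p n) (p ^ n) := by
  refine wittStructureInt_homog p _ _ (fun m => ?_) n
  simp only [map_add, map_X, bind₁_X_right]
  have h := fun b : Fin 2 => rename_wittPolynomial p (fun _ : Fin 2 => 1) b m
  simp only [one_mul] at h
  exact (h 0).add (h 1)

theorem wittMul_homog (n : ℕ) :
    IsWeightedHomogeneous (fun x : Fin 2 × ℕ => (![0, 1] : Fin 2 → ℕ) x.1 * p ^ x.2)
      (WittVector.wittMul p n) (p ^ n) := by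
  refine wittStructureInt_homog p _ _ (fun m => ?_) n
  simp only [map_mul, map_X, bind₁_X_right]
  convert (rename_wittPolynomial p ![0, 1] (0 : Fin 2) m).mul
    (rename_wittPolynomial p ![0, 1] (1 : Fin 2) m) using 1
  simp

omit hp in
theorem aeval_mem {A K : Type*} [CommRing A] [CommRing K] [Algebra A K] (M : ℕ → Submodule A K)
    (hmul : ∀ (i j : ℕ) (a b : K), a ∈ M i → b ∈ M j → a * b ∈ M (i + j))
    {σ : Type*} (w : σ → ℕ) {P : MvPolynomial σ ℤ} {d : ℕ} (hP : IsWeightedHomogeneous w P d)
    (hd : d ≠ 0) (f : σ → K) (h0 : ∀ s, w s = 0 → f s ∈ (1 : Submodule A K))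
    (h1 : ∀ s, w s ≠ 0 → f s ∈ M (w s)) : aeval f P ∈ M d := by
  let N : ℕ → Submodule A K := fun i => if i = 0 then 1 else M i
  have hN : ∀ i j a b, a ∈ N i → b ∈ N j → a * b ∈ N (i + j) := by
    intro i j a b ha hb
    simp only [N] at ha hb ⊢
    rcases eq_or_ne i 0 with rfl | hi
    · obtain ⟨r, rfl⟩ := Submodule.mem_one.mp (by simpa using ha)
      rw [zero_add, ← Algebra.smul_def]
      exact Submodule.smul_mem _ r hb
    rcases eq_or_ne j 0 with rfl | hj
    · obtain ⟨r, rfl⟩ := Submodule.mem_one.mp (by simpa using hb)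
      rw [add_zero, mul_comm, ← Algebra.smul_def]
      exact Submodule.smul_mem _ r ha
    rw [if_neg hi] at ha
    rw [if_neg hj] at hb
    rw [if_neg (by omega)]
    exact hmul i j a b ha hb
  have h1N : (1 : K) ∈ N 0 := by
    simp only [N, if_true]; exact Submodule.one_le.mp le_rfl
  have hf : ∀ s, f s ∈ N (w s) := fun s => by
    simp only [N]; split_ifs with h
    exacts [h0 s h, h1 s h]
  have hpow : ∀ s e, f s ^ e ∈ N (e * w s) := by
    intro s e
    induction e with
    | zero => simpa using h1N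
    | succ e ih => rw [pow_succ, Nat.succ_mul]; exact hN _ _ _ _ ih (hf s)
  have key : ∀ e : σ →₀ ℕ, (e.prod fun s k => f s ^ k) ∈ N (Finsupp.weight w e) := by
    intro e
    induction e using Finsupp.induction with
    | zero => simpa using h1N
    | single_add s k e hs hk ih =>
      rw [Finsupp.prod_add_index' (fun _ => pow_zero _) (fun _ _ _ => pow_add _ _ _),
        Finsupp.prod_single_index (h := fun x j => f x ^ j) (pow_zero (f s)), map_add, Finsupp.weight_single, smul_eq_mul]
      exact hN _ _ _ _ (hpow s k) ih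
  rw [aeval_def, eval₂_eq]
  · refine Submodule.sum_mem _ fun e he => ?_
    rw [eq_intCast, ← zsmul_eq_mul]
    refine zsmul_mem ?_ _
    have := key e
    rw [hP (mem_support_iff.mp he)] at this
    simp only [N, if_neg hd] at this
    rw [Finsupp.prod] at this
    exact this

end Groth.Agent.WittHomog
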